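import Groth.Agent.BirForms.Main
import Groth.Agent.SGA6Ext.Exists
import Groth.Agent.SGA6Ext.Lambda
import Groth.Agent.AVOmega.Basic
import Groth.Agent.AVOmega.Push
import Groth.Agent.CurveRR.Zero
import Groth.Agent.GeomProp.SmoothPoint
import Groth.Agent.InfLift.SchemeSmallExt
import Groth.Agent.Castel.Descend
import Groth.Agent.AmpleHomeo.Basic
import Groth.Agent.FlatParaF.Main

/-! Birational invariance of the dimensions of spaces of global forms. -/

set_option autoImplicit false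
set_option backward.isDefEq.respectTransparency false
set_option backward.isDefEq.respectTransparency.types false
set_option linter.style.haveILetI false
set_option maxHeartbeats 1000000

universe u

open CategoryTheory CategoryTheory.Limits AlgebraicGeometry Opposite
open Groth.Agent.QC (res resO res_res res_self res_smul)
open TMul (IsGen)

noncomputable section

namespace Groth.Agent.BirForms

variable (k : Type u) [Field k] [IsAlgClosed k]

theorem smooth_of_regular (X : Scheme.{u}) [X.Over (Spec (CommRingCat.of k))]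
    [LocallyOfFiniteType (X ↘ Spec (CommRingCat.of k))] (hreg : ∀ x : X, IsRegularLocalRing (X.presheaf.stalk x)) :
    Smooth (X ↘ Spec (CommRingCat.of k)) := by
  haveI : LocallyOfFinitePresentation (X ↘ Spec (CommRingCat.of k)) := InfLift.lfp_of_lft _
  exact Scheme.Hom.smoothLocus_eq_top_iff.1
    (top_le_iff.1 fun z _ => (GeomProp.smoothLocus_iff_regular k X z).2 (hreg z))

theorem isFinLocFree_of_isExtPow {X : Scheme.{u}} {E L : X.Modules} {q : ℕ} (hE : FlatMod.IsFinLocFree E)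
    (hL : ExtPow.IsExtPow q E L) : FlatMod.IsFinLocFree L := by
  obtain ⟨φ, hφ⟩ := hL
  obtain ⟨ψ, hψ⟩ := SGA6Ext.isExtPow_extSh E q hE
  obtain ⟨i⟩ := SGA6Ext.nonempty_iso_of_phi (φ := ψ) hψ (φ' := φ) hφ
  exact DQCoh.isFinLocFree_of_iso' i (SGA6Ext.isFinLocFree_extSh E q hE)

theorem isInvertible_of_isExtPow {X : Scheme.{u}} {E L : X.Modules} {n : ℕ}
    (hE : FlatMod.IsFinLocFreeOfRank n E) (hL : ExtPow.IsExtPow n E L) : PicF.IsInvertible L := by
  have hE' : FlatMod.IsFinLocFree E := fun y => let ⟨U, h1, h2⟩ := hE y; ⟨U, n, h1, h2⟩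
  obtain ⟨φ, hφ⟩ := hL
  obtain ⟨ψ, hψ⟩ := SGA6Ext.isExtPow_extSh E n hE'
  obtain ⟨i⟩ := SGA6Ext.nonempty_iso_of_phi (φ := φ) hφ (φ' := ψ) hψ
  refine ParaFLib.isInvertible_of_iso i.symm (Castel.isInvertible_of_gens _ fun x => ?_)
  obtain ⟨U, e, hxU, he⟩ := CurveRR.exists_frame hE x
  obtain ⟨f, hf⟩ := SGA6Ext.exists_frame_extSh E n he
  let a : Fin (n.choose n) := ⟨0, by rw [Nat.choose_self]; exact one_pos⟩
  haveI : Subsingleton (Fin (n.choose n)) := by rw [Nat.choose_self]; infer_instance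
  refine ⟨U, f a, hxU, fun V hV => ?_⟩
  have hd : Function.Bijective (fun (c : Γ(X, V)) (_ : Fin (n.choose n)) => c) :=
    ⟨fun c c' h => congrFun h a, fun d => ⟨d a, funext fun i => congrArg d (Subsingleton.elim a i)⟩⟩
  have hb := ((hf.equiv hV).bijective).comp hd
  convert hb using 1
  funext c
  show c • res _ hV (f a) = ∑ i, c • res _ hV (f i)
  rw [Fintype.sum_subsingleton _ a]

variable (n : ℕ) (X X' : Scheme.{u}) [X.Over (Spec (CommRingCat.of k))] [X'.Over (Spec (CommRingCat.of k))]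
  [IsIntegral X] [IsIntegral X'] [IsProper (X ↘ (Spec (CommRingCat.of k)))]
  [IsProper (X' ↘ (Spec (CommRingCat.of k)))]
  (hreg : ∀ x : ↥X, IsRegularLocalRing ↑(X.presheaf.stalk x))
  (hreg' : ∀ x : ↥X', IsRegularLocalRing ↑(X'.presheaf.stalk x))
  (U : X.Opens) (U' : X'.Opens) (hU : (U : Set ↥X).Nonempty) (e : (U : Scheme.{u}) ≅ (U' : Scheme.{u}))
  (he : e.hom ≫ U'.ι ≫ (X' ↘ (Spec (CommRingCat.of k))) = U.ι ≫ (X ↘ (Spec (CommRingCat.of k))))

include hreg hreg' hU he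

omit [IsAlgClosed k] in
/-- Transfers in both directions give equal dimensions. -/
theorem finrank_eq {L : X.Modules} (hL : FlatMod.IsFinLocFree L) {L' : X'.Modules} (hL' : FlatMod.IsFinLocFree L')
    {G : X'.Opens → Prop} {G' : X.Opens → Prop}
    (T : Tr (X ↘ Spec (CommRingCat.of k)) (X' ↘ Spec (CommRingCat.of k)) L L' G)
    (T' : Tr (X' ↘ Spec (CommRingCat.of k)) (X ↘ Spec (CommRingCat.of k)) L' L G')
    (hT : T.LeftInv T') (hT' : T'.LeftInv T)
    (hG : ∀ (O : X'.Opens) (x : X'), x ∈ O → ∃ V' : X'.Opens, IsAffineOpen V' ∧ G V' ∧ x ∈ V' ∧ V' ≤ O)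
    (hG' : ∀ (O : X.Opens) (x : X), x ∈ O → ∃ W : X.Opens, IsAffineOpen W ∧ G' W ∧ x ∈ W ∧ W ≤ O)
    (hdown : ∀ W W₁ : X.Opens, G' W → W₁ ≤ W → G' W₁) (hdown' : ∀ W W₁ : X'.Opens, G W → W₁ ≤ W → G W₁) :
    Module.finrank k (Coh.HH X L 0) = Module.finrank k (Coh.HH X' L' 0) := by
  refine congrArg Cardinal.toNat (le_antisymm ?_ (rank_le k X X' hreg hU e he hL hL' T T' hT hG hG' hdown))
  refine rank_le k X' X hreg' ?_ e.symm ?_ hL' hL T' T hT' hG' hG hdown'
  · obtain ⟨x, hx⟩ := hU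
    exact ⟨U'.ι (e.hom ⟨x, hx⟩), (e.hom ⟨x, hx⟩).2⟩
  · rw [Iso.symm_hom, ← cancel_epi e.hom, Iso.hom_inv_id_assoc, he]

/-- Global `q`-forms. -/
theorem finrank_extPow_eq (q : ℕ) (L : X.Modules) (hL : ExtPow.IsExtPow q (Omega.sheaf (X ↘ (Spec (CommRingCat.of k)))) L)
    (L' : X'.Modules) (hL' : ExtPow.IsExtPow q (Omega.sheaf (X' ↘ (Spec (CommRingCat.of k)))) L') :
    Module.finrank k (Coh.HH X L 0) = Module.finrank k (Coh.HH X' L' 0) := by
  haveI := smooth_of_regular k X hreg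
  haveI := smooth_of_regular k X' hreg'
  have h1 := isFinLocFree_of_isExtPow (AVOmega.isFinLocFree_omega _) hL
  have h2 := isFinLocFree_of_isExtPow (AVOmega.isFinLocFree_omega _) hL'
  obtain ⟨φ, hφ⟩ := hL
  obtain ⟨φ', hφ'⟩ := hL'
  refine finrank_eq k X X' hreg hreg' U U' hU e he h1 h2
    (extTr (omegaTr _ _ fun _ => True) (φ := φ) hφ (φ' := φ') hφ')
    (extTr (omegaTr _ _ fun _ => True) (φ := φ') hφ' (φ' := φ) hφ)
    (extTr_leftInv (omegaTr_leftInv _ _) hφ hφ') (extTr_leftInv (omegaTr_leftInv _ _) hφ' hφ)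
    (fun O x hx => ?_) (fun O x hx => ?_) (fun _ _ _ _ => trivial) (fun _ _ _ _ => trivial)
  · obtain ⟨W, hW, hxW, hle⟩ := exists_isAffineOpen_mem_and_subset (U := O) hx
    exact ⟨W, hW, trivial, hxW, hle⟩
  · obtain ⟨W, hW, hxW, hle⟩ := exists_isAffineOpen_mem_and_subset (U := O) hx
    exact ⟨W, hW, trivial, hxW, hle⟩

/-- Global pluricanonical forms. -/
theorem finrank_tensorPow_eq (hn : topologicalKrullDim ↥X = n) (hn' : topologicalKrullDim ↥X' = n)
    (ω : X.Modules) (hω : ExtPow.IsExtPow n (Omega.sheaf (X ↘ (Spec (CommRingCat.of k)))) ω)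
    (ω' : X'.Modules) (hω' : ExtPow.IsExtPow n (Omega.sheaf (X' ↘ (Spec (CommRingCat.of k)))) ω') (m : ℕ) :
    Module.finrank k (Coh.HH X (CohB1.tensorPow ω m) 0) = Module.finrank k (Coh.HH X' (CohB1.tensorPow ω' m) 0) := by
  haveI := smooth_of_regular k X hreg
  haveI := smooth_of_regular k X' hreg'
  have h1 := isInvertible_of_isExtPow (AVOmega.isFinLocFreeOfRank_omega _ n hn) hω
  have h2 := isInvertible_of_isExtPow (AVOmega.isFinLocFreeOfRank_omega _ n hn') hω'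
  have hflf : ∀ {Y : Scheme.{u}} (A : Y.Modules), PicF.IsInvertible A → ∀ j : ℕ,
      FlatMod.IsFinLocFree (CohB1.tensorPow A j) := by
    intro Y A hA j
    induction j with
    | zero => exact ResDesc.isFinLocFree_of_isInvertible TMul.isInvertible_structureModule
    | succ j ih => exact SGA6Ext.isFinLocFree_tm ih (ResDesc.isFinLocFree_of_isInvertible hA)
  have hbase : ∀ {Y : Scheme.{u}} (A : Y.Modules), PicF.IsInvertible A → ∀ (O : Y.Opens) (x : Y), x ∈ O →
      ∃ W : Y.Opens, IsAffineOpen W ∧ HasGen A W ∧ x ∈ W ∧ W ≤ O := by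
    intro Y A hA O x hx
    obtain ⟨D, g, hxD, hg⟩ := TMul.exists_isGen hA x
    obtain ⟨W, hW, hxW, hle⟩ := exists_isAffineOpen_mem_and_subset (U := O ⊓ D) (x := x) ⟨hx, hxD⟩
    exact ⟨W, hW, ⟨res A (hle.trans inf_le_right) g, hg.res _⟩, hxW, hle.trans inf_le_left⟩
  obtain ⟨φ, hφ⟩ := hω
  obtain ⟨φ', hφ'⟩ := hω'
  let Q := extTr (omegaTr (X ↘ Spec (CommRingCat.of k)) (X' ↘ Spec (CommRingCat.of k)) (HasGen ω')) (φ := φ) hφ
    (φ' := φ') hφ'
  let Q' := extTr (omegaTr (X' ↘ Spec (CommRingCat.of k)) (X ↘ Spec (CommRingCat.of k)) (HasGen ω)) (φ := φ') hφ'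
    (φ' := φ) hφ
  exact finrank_eq k X X' hreg hreg' U U' hU e he (hflf ω h1 m) (hflf ω' h2 m) (powTr Q m) (powTr Q' m)
    (powTr_leftInv (extTr_leftInv (omegaTr_leftInv _ _) hφ hφ') m)
    (powTr_leftInv (extTr_leftInv (omegaTr_leftInv _ _) hφ' hφ) m) (hbase ω' h2) (hbase ω h1)
    (fun _ _ ⟨g, hg⟩ h => ⟨res ω h g, hg.res h⟩) (fun _ _ ⟨g, hg⟩ h => ⟨res ω' h g, hg.res h⟩)

end Groth.Agent.BirForms
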