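import Groth.Agent.BirForms.Transfer
import Groth.Agent.SGA6Ext.Basis

/-! Pulling back forms along a morphism from an open subscheme, by gluing the affine transfers. -/

set_option autoImplicit false
set_option backward.isDefEq.respectTransparency false
set_option linter.style.haveILetI false
set_option maxHeartbeats 1000000

universe u

open CategoryTheory CategoryTheory.Limits AlgebraicGeometry Opposite
open Groth.Agent.QC (res resO res_res res_self res_smul)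
open Groth.Agent.SGA6Ext (IsBase glue_base ext_base)

noncomputable section

namespace Groth.Agent.BirForms

variable {S X X' : Scheme.{u}} {p : X ⟶ S} {p' : X' ⟶ S} {V : X.Opens} (φ : (V : Scheme.{u}) ⟶ X')

/-- The map of coordinate rings of a morphism defined on an open. -/
def coord {W : X.Opens} (hW : W ≤ V) {V' : X'.Opens} (h : ⊤ ≤ (X.homOfLE hW ≫ φ) ⁻¹ᵁ V') :
    Γ(X', V') →+* Γ(X, W) :=
  ((X.homOfLE hW ≫ φ).appLE V' ⊤ h ≫ W.topIso.hom).hom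

theorem coord_cmp (hφ : φ ≫ p' = V.ι ≫ p) {W : X.Opens} (hW : W ≤ V) {V' : X'.Opens}
    (h : ⊤ ≤ (X.homOfLE hW ≫ φ) ⁻¹ᵁ V') : Cmp p p' (coord φ hW h) := fun r => by
  have e : (X.homOfLE hW ≫ φ) ≫ p' = W.ι ≫ p := by rw [Category.assoc, hφ, X.homOfLE_ι_assoc]
  have key : p'.appLE ⊤ V' le_top ≫ (X.homOfLE hW ≫ φ).appLE V' ⊤ h ≫ W.topIso.hom = p.appLE ⊤ W le_top := by
    have h1 : W.ι.appLE W ⊤ W.ι_preimage_self.ge ≫ W.topIso.hom = 𝟙 _ := by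
      rw [Scheme.Opens.ι_appLE, Scheme.Opens.topIso_hom, ← Functor.map_comp]
      exact X.presheaf.map_id _
    rw [Scheme.Hom.appLE_comp_appLE_assoc]
    simp only [e]
    rw [← Scheme.Hom.appLE_comp_appLE_assoc W.ι p ⊤ W ⊤ le_top W.ι_preimage_self.ge, h1, Category.comp_id]
  exact ConcreteCategory.congr_hom key r

theorem coord_res {W W₁ : X.Opens} (hW : W ≤ V) {V' V₁ : X'.Opens} (h : ⊤ ≤ (X.homOfLE hW ≫ φ) ⁻¹ᵁ V')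
    (e : W₁ ≤ W) (e' : V₁ ≤ V') (h₁ : ⊤ ≤ (X.homOfLE (e.trans hW) ≫ φ) ⁻¹ᵁ V₁) (a : Γ(X', V')) :
    resO X e (coord φ hW h a) = coord φ (e.trans hW) h₁ (resO X' e' a) := by
  have key : ((X.homOfLE hW ≫ φ).appLE V' ⊤ h ≫ W.topIso.hom) ≫ X.presheaf.map (homOfLE e).op =
      X'.presheaf.map (homOfLE e').op ≫ (X.homOfLE (e.trans hW) ≫ φ).appLE V₁ ⊤ h₁ ≫ W₁.topIso.hom := by
    rw [Scheme.Hom.map_appLE_assoc]
    have e1 : X.homOfLE (e.trans hW) ≫ φ = X.homOfLE e ≫ X.homOfLE hW ≫ φ := by rw [X.homOfLE_homOfLE_assoc]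
    simp only [e1]
    rw [← Scheme.Hom.appLE_comp_appLE_assoc (X.homOfLE e) (X.homOfLE hW ≫ φ) V' ⊤ ⊤ h le_top, Category.assoc,
      Scheme.homOfLE_appLE, Scheme.Opens.topIso_hom, Scheme.Opens.topIso_hom, ← Functor.map_comp,
      ← Functor.map_comp]
    rfl
  exact ConcreteCategory.congr_hom key a

theorem exists_small {G : X'.Opens → Prop}
    (hG : ∀ (O : X'.Opens) (x : X'), x ∈ O → ∃ V' : X'.Opens, IsAffineOpen V' ∧ G V' ∧ x ∈ V' ∧ V' ≤ O)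
    {U : X.Opens} (hU : U ≤ V) {x : X} (hx : x ∈ U) (O : X'.Opens) (hxO : φ ⟨x, hU hx⟩ ∈ O) :
    ∃ (W : X.Opens) (V' : X'.Opens) (hW : W ≤ U), IsAffineOpen W ∧ IsAffineOpen V' ∧ G V' ∧ x ∈ W ∧ V' ≤ O ∧
      ⊤ ≤ (X.homOfLE (hW.trans hU) ≫ φ) ⁻¹ᵁ V' := by
  obtain ⟨V', hV', gV', hxV', hle⟩ := hG O _ hxO
  obtain ⟨W, hW, hxW, hWle⟩ := exists_isAffineOpen_mem_and_subset (X := X) (x := x)
    (U := U ⊓ V.ι ''ᵁ (φ ⁻¹ᵁ V')) ⟨hx, ⟨x, hU hx⟩, hxV', rfl⟩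
  refine ⟨W, V', hWle.trans inf_le_left, hW, hV', gV', hxW, hle, fun w _ => ?_⟩
  obtain ⟨v, hv, hvw⟩ := (hWle w.2).2
  have e : X.homOfLE ((hWle.trans inf_le_left).trans hU) w = v := by
    apply Subtype.ext
    rw [Scheme.homOfLE_apply]
    exact hvw.symm
  show φ (X.homOfLE _ w) ∈ V'
  rw [e]
  exact hv

/-- Forms pull back along a morphism from an open subscheme. -/
theorem exists_pullback_sections (hφ : φ ≫ p' = V.ι ≫ p) {L : X.Modules} {L' : X'.Modules}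
    {G : X'.Opens → Prop} (T : Tr p p' L L' G)
    (hG : ∀ (O : X'.Opens) (x : X'), x ∈ O → ∃ V' : X'.Opens, IsAffineOpen V' ∧ G V' ∧ x ∈ V' ∧ V' ≤ O) :
    ∃ Φ : Γ(L', ⊤) →+ Γ(L, V),
      (∀ (r : Γ(S, ⊤)) (s : Γ(L', ⊤)),
        Φ (p'.appLE ⊤ ⊤ le_top r • s) = p.appLE ⊤ V le_top r • Φ s) ∧
      ∀ (W : X.Opens) (V' : X'.Opens) (hWV : W ≤ V) (hW : IsAffineOpen W) (hV' : IsAffineOpen V') (gV : G V')
        (h : ⊤ ≤ (X.homOfLE hWV ≫ φ) ⁻¹ᵁ V') (s : Γ(L', ⊤)),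
        res L hWV (Φ s) = T.map W V' hW hV' gV (coord φ hWV h) (coord_cmp φ hφ hWV h) (res L' le_top s) := by
  classical
  let val := fun (W : X.Opens) (V' : X'.Opens) (hWV : W ≤ V) (hW : IsAffineOpen W) (hV' : IsAffineOpen V')
      (gV : G V') (h : ⊤ ≤ (X.homOfLE hWV ≫ φ) ⁻¹ᵁ V') (s : Γ(L', ⊤)) =>
    T.map W V' hW hV' gV (coord φ hWV h) (coord_cmp φ hφ hWV h) (res L' le_top s)
  have hres : ∀ (W W₁ : X.Opens) (V' V₁ : X'.Opens) (hWV : W ≤ V) (hW : IsAffineOpen W) (hV' : IsAffineOpen V')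
      (gV : G V') (h : ⊤ ≤ (X.homOfLE hWV ≫ φ) ⁻¹ᵁ V') (e : W₁ ≤ W) (e' : V₁ ≤ V') (hW₁ : IsAffineOpen W₁)
      (hV₁ : IsAffineOpen V₁) (gV₁ : G V₁) (h₁ : ⊤ ≤ (X.homOfLE (e.trans hWV) ≫ φ) ⁻¹ᵁ V₁) (s : Γ(L', ⊤)),
      res L e (val W V' hWV hW hV' gV h s) = val W₁ V₁ (e.trans hWV) hW₁ hV₁ gV₁ h₁ s := by
    intro W W₁ V' V₁ hWV hW hV' gV h e e' hW₁ hV₁ gV₁ h₁ s
    show res L e (T.map _ _ _ _ _ _ _ _) = T.map _ _ _ _ _ _ _ _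
    rw [T.map_res W W₁ V' V₁ hW hW₁ hV' hV₁ gV gV₁ _ _ (coord φ (e.trans hWV) h₁)
      (coord_cmp φ hφ _ h₁) e e' (coord_res φ hWV h e e' h₁), res_res]
  -- agreement
  have hagree : ∀ (W₁ W₂ : X.Opens) (V₁ V₂ : X'.Opens) (hW₁V : W₁ ≤ V) (hW₁ : IsAffineOpen W₁)
      (hV₁ : IsAffineOpen V₁) (g₁ : G V₁) (h₁ : ⊤ ≤ (X.homOfLE hW₁V ≫ φ) ⁻¹ᵁ V₁) (hW₂V : W₂ ≤ V)
      (hW₂ : IsAffineOpen W₂) (hV₂ : IsAffineOpen V₂) (g₂ : G V₂) (h₂ : ⊤ ≤ (X.homOfLE hW₂V ≫ φ) ⁻¹ᵁ V₂)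
      (e : W₂ ≤ W₁) (s : Γ(L', ⊤)),
      res L e (val W₁ V₁ hW₁V hW₁ hV₁ g₁ h₁ s) = val W₂ V₂ hW₂V hW₂ hV₂ g₂ h₂ s := by
    intro W₁ W₂ V₁ V₂ hW₁V hW₁ hV₁ g₁ h₁ hW₂V hW₂ hV₂ g₂ h₂ e s
    refine QC.section_eq_of_locally fun x hx => ?_
    have hm₁ : φ ⟨x, hW₂V hx⟩ ∈ V₁ := by
      have := h₁ (x := ⟨x, e hx⟩) trivial
      have e0 : X.homOfLE hW₁V ⟨x, e hx⟩ = ⟨x, hW₂V hx⟩ := Subtype.ext (Scheme.homOfLE_apply ..)
      rw [← e0]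
      exact this
    have hm₂ : φ ⟨x, hW₂V hx⟩ ∈ V₂ := by
      have := h₂ (x := ⟨x, hx⟩) trivial
      have e0 : X.homOfLE hW₂V ⟨x, hx⟩ = ⟨x, hW₂V hx⟩ := Subtype.ext (Scheme.homOfLE_apply ..)
      rw [← e0]
      exact this
    obtain ⟨W, V', hW, hWa, hV', gV, hxW, hle, h⟩ := exists_small φ hG hW₂V hx (V₁ ⊓ V₂) ⟨hm₁, hm₂⟩
    refine ⟨W, hW, hxW, ?_⟩
    rw [res_res, hres W₁ W V₁ V' hW₁V hW₁ hV₁ g₁ h₁ _ (hle.trans inf_le_left) hWa hV' gV h,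
      hres W₂ W V₂ V' hW₂V hW₂ hV₂ g₂ h₂ hW (hle.trans inf_le_right) hWa hV' gV h]
  let G₀ : X.Opens → Prop := fun W => IsAffineOpen W ∧ (∀ hWV : W ≤ V,
    ∃ (V' : X'.Opens), IsAffineOpen V' ∧ G V' ∧ ⊤ ≤ (X.homOfLE hWV ≫ φ) ⁻¹ᵁ V')
  have hG₀ : IsBase G₀ := fun U x hx => by
    by_cases hxV : x ∈ V
    · obtain ⟨W, V', hW, hWa, hV', gV, hxW, -, h⟩ :=
        exists_small φ hG (inf_le_right : U ⊓ V ≤ V) ⟨hx, hxV⟩ ⊤ trivial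
      exact ⟨W, ⟨hWa, fun _ => ⟨V', hV', gV, h⟩⟩, hxW, hW.trans inf_le_left⟩
    · obtain ⟨W, hW, hxW, hle⟩ := exists_isAffineOpen_mem_and_subset (X := X) (x := x) (U := U) hx
      exact ⟨W, ⟨hW, fun hWV => absurd (hWV hxW) hxV⟩, hxW, hle⟩
  have hex : ∀ s : Γ(L', ⊤), ∃ t : Γ(L, V), ∀ (W : X.Opens) (V' : X'.Opens) (hWV : W ≤ V) (hW : IsAffineOpen W)
      (hV' : IsAffineOpen V') (gV : G V') (h : ⊤ ≤ (X.homOfLE hWV ≫ φ) ⁻¹ᵁ V'),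
      res L hWV t = val W V' hWV hW hV' gV h s := by
    intro s
    obtain ⟨t, ht⟩ := glue_base (M := L) hG₀ V
      (fun W hW hWV => val W (hW.2 hWV).choose hWV hW.1 (hW.2 hWV).choose_spec.1 (hW.2 hWV).choose_spec.2.1
        (hW.2 hWV).choose_spec.2.2 s)
      (fun W₂ W₁ hW₂ hW₁ e hW₁V => hagree W₁ W₂ _ _ hW₁V _ _ _ _ (e.trans hW₁V) _ _ _ _ e s)
    refine ⟨t, fun W V' hWV hW hV' gV h => ?_⟩
    have hW0 : G₀ W := ⟨hW, fun _ => ⟨V', hV', gV, h⟩⟩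
    rw [ht W hW0 hWV]
    exact (res_self L le_rfl _).symm.trans (hagree W W _ V' hWV hW _ _ _ hWV hW hV' gV h le_rfl s)
  choose Φ hΦ using hex
  have hadd : ∀ a b, Φ (a + b) = Φ a + Φ b := fun a b => ext_base hG₀ fun W hWV hW => by
    obtain ⟨V', hV', gV, h⟩ := hW.2 hWV
    rw [map_add, hΦ _ W V' hWV hW.1 hV' gV h, hΦ _ W V' hWV hW.1 hV' gV h, hΦ _ W V' hWV hW.1 hV' gV h]
    show T.map _ _ _ _ _ _ _ _ = _
    rw [map_add, map_add]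
  refine ⟨AddMonoidHom.mk' Φ hadd, fun r s => ext_base hG₀ fun W hWV hW => ?_,
    fun W V' hWV hW hV' gV h s => hΦ s W V' hWV hW hV' gV h⟩
  obtain ⟨V', hV', gV, h⟩ := hW.2 hWV
  show res L hWV (Φ _) = res L hWV (_ • Φ s)
  rw [res_smul, hΦ _ W V' hWV hW.1 hV' gV h, hΦ _ W V' hWV hW.1 hV' gV h]
  show T.map _ _ _ _ _ _ _ _ = _
  rw [res_smul, T.map_smul]
  congr 1
  have e1 : resO X' (le_top : V' ≤ ⊤) (p'.appLE ⊤ ⊤ le_top r) = p'.appLE ⊤ V' le_top r :=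
    ConcreteCategory.congr_hom (p'.appLE_map _ (homOfLE (le_top : V' ≤ ⊤)).op) r
  have e2 : resO X hWV (p.appLE ⊤ V le_top r) = p.appLE ⊤ W le_top r :=
    ConcreteCategory.congr_hom (p.appLE_map _ (homOfLE hWV).op) r
  rw [e1, e2]
  exact coord_cmp φ hφ hWV h r

end Groth.Agent.BirForms
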