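import Groth.Agent.BirForms.Glue
import Groth.Agent.RefStalk.Codim
import Groth.Agent.RefStalk.Restrict
import Groth.Agent.RegLoc.Normal
import Groth.Agent.RegLoc.Order
import Groth.Agent.SerrePn.ClosedDepth
import Groth.Agent.K0Coh.Basic
import Groth.Agent.CohFinite.AmpleFinite
import Groth.Agent.TMul.Frame
import Groth.Agent.ResDesc.ResProp
import Groth.Agent.S4440

/-! Global forms are a birational invariant of regular complete varieties. -/

set_option autoImplicit false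
set_option backward.isDefEq.respectTransparency false
set_option linter.style.haveILetI false
set_option maxHeartbeats 1000000

universe u

open CategoryTheory CategoryTheory.Limits AlgebraicGeometry Opposite
open Groth.Agent.QC (res resO res_res res_self res_smul)

noncomputable section

namespace Groth.Agent.BirForms

/-- A section of a locally free module on an integral scheme vanishing on a nonempty open is zero. -/
theorem eq_zero_of_res_eq_zero {X : Scheme.{u}} [IsIntegral X] {L : X.Modules} (hL : FlatMod.IsFinLocFree L)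
    (s : Γ(L, ⊤)) {V : X.Opens} {y : X} (hy : y ∈ V) (h : res L (le_top : V ≤ ⊤) s = 0) : s = 0 := by
  refine QC.section_eq_of_locally fun x _ => ?_
  obtain ⟨U, n, e, hxU, he⟩ := TMul.exists_isFrame hL x
  refine ⟨U, le_top, hxU, ?_⟩
  rw [map_zero]
  obtain ⟨c, hc⟩ := (he.equiv le_rfl).surjective (res L le_top s)
  obtain ⟨z, hzU, hzV⟩ := nonempty_preirreducible_inter U.isOpen V.isOpen ⟨x, hxU⟩ ⟨y, hy⟩
  have hc0 : (fun i => resO X (inf_le_left : U ⊓ V ≤ U) (c i)) = 0 := by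
    refine (he.equiv (inf_le_left : U ⊓ V ≤ U)).injective ?_
    have h1 : res L (inf_le_left : U ⊓ V ≤ U) (he.equiv le_rfl c) = 0 := by
      rw [hc, res_res, ← res_res L (inf_le_right : U ⊓ V ≤ V) le_top, h, map_zero]
    rw [map_zero]
    refine Eq.trans ?_ h1
    show ∑ i, resO X _ (c i) • res L _ (e i) = res L _ (∑ i, c i • res L le_rfl (e i))
    rw [map_sum]
    refine Finset.sum_congr rfl fun i _ => ?_
    rw [res_smul, res_res]
  haveI : Nonempty U := ⟨⟨x, hxU⟩⟩
  have hc1 : c = 0 := by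
    funext i
    refine germ_injective_of_isIntegral X z hzU ?_
    have h2 := congrArg (X.presheaf.germ (U ⊓ V) z ⟨hzU, hzV⟩) (congrFun hc0 i)
    rw [show (0 : Fin n → Γ(X, U ⊓ V)) i = 0 from rfl, map_zero] at h2
    rw [show (0 : Fin n → Γ(X, U)) i = 0 from rfl, map_zero]
    rw [← h2]
    exact (TopCat.Presheaf.germ_res_apply X.presheaf _ _ _ _).symm
  rw [← hc, hc1, map_zero]

variable (k : Type u) [Field k] (X X' : Scheme.{u}) [X.Over (Spec (CommRingCat.of k))]
  [X'.Over (Spec (CommRingCat.of k))]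

/-- Forms on a birational model inject. -/
theorem rank_le [IsIntegral X] [IsIntegral X'] [LocallyOfFiniteType (X ↘ Spec (CommRingCat.of k))]
    [IsProper (X' ↘ Spec (CommRingCat.of k))]
    (hreg : ∀ x : X, IsRegularLocalRing (X.presheaf.stalk x)) {U : X.Opens} {U' : X'.Opens}
    (hU : (U : Set X).Nonempty) (e : (U : Scheme.{u}) ≅ (U' : Scheme.{u}))
    (he : e.hom ≫ U'.ι ≫ (X' ↘ Spec (CommRingCat.of k)) = U.ι ≫ (X ↘ Spec (CommRingCat.of k)))
    {L : X.Modules} (hL : FlatMod.IsFinLocFree L) {L' : X'.Modules} (hL' : FlatMod.IsFinLocFree L')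
    {G : X'.Opens → Prop} {G' : X.Opens → Prop}
    (T : Tr (X ↘ Spec (CommRingCat.of k)) (X' ↘ Spec (CommRingCat.of k)) L L' G)
    (T' : Tr (X' ↘ Spec (CommRingCat.of k)) (X ↘ Spec (CommRingCat.of k)) L' L G') (hT : T.LeftInv T')
    (hG : ∀ (O : X'.Opens) (x : X'), x ∈ O → ∃ V' : X'.Opens, IsAffineOpen V' ∧ G V' ∧ x ∈ V' ∧ V' ≤ O)
    (hG' : ∀ (O : X.Opens) (x : X), x ∈ O → ∃ W : X.Opens, IsAffineOpen W ∧ G' W ∧ x ∈ W ∧ W ≤ O)
    (hdown : ∀ W W₁ : X.Opens, G' W → W₁ ≤ W → G' W₁) :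
    Module.rank k (Coh.HH X' L' 0) ≤ Module.rank k (Coh.HH X L 0) := by
  haveI : IsLocallyNoetherian X := LocallyOfFiniteType.isLocallyNoetherian (X ↘ Spec (CommRingCat.of k))
  obtain ⟨V, hUV, φ, hφ, hφe, hcodim⟩ := S4440.result (X' ↘ Spec (CommRingCat.of k)) (X ↘ Spec (CommRingCat.of k))
    (fun y _ => hreg y) U (U.isOpen.dense hU) (e.hom ≫ U'.ι) (by rw [Category.assoc, he])
  have hn : Pi1.IsNormalScheme X := fun x => by
    haveI := hreg x
    exact ⟨RegLoc.isDomain _, RegLoc.isIntegrallyClosed⟩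
  have hLc : Coh.IsCoh L := K0Coh.isCoh_of_isFinLocFree hL
  have hdepth : ∀ x : X, x ∈ (⊤ : X.Opens) → x ∉ V →
      (2 : ℕ∞) ≤ LocCoh.depth (X.presheaf.stalk x) (L.presheaf.stalk x) := fun x _ hx => by
    haveI := LocFree.free_stalk_of_isFinLocFree hL x
    haveI := RegDual.finite_stalk hLc x
    refine SerrePn.le_depth_free (RefStalk.two_le_depth hn x (le_of_not_gt fun h => hx (hcodim x ?_))) _
    exact Order.le_of_lt_succ (lt_of_lt_of_eq h (by rfl))
  have hbij : Function.Bijective (res L (le_top : V ≤ ⊤)) := RefStalk.bijective_rs_of_depth hLc le_top hdepth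
  obtain ⟨Φ, hΦs, hΦ⟩ := exists_pullback_sections φ hφ T hG
  -- the pullback is injective
  have hinj : ∀ s : Γ(L', ⊤), Φ s = 0 → s = 0 := by
    intro s hs
    obtain ⟨x, hx⟩ := hU
    obtain ⟨W₀, hW₀a, gW₀, hxW₀, hW₀U⟩ := hG' U x hx
    obtain ⟨V', hV', gV, hyV, hV'le⟩ := hG (U'.ι ''ᵁ (e.inv ⁻¹ᵁ (U.ι ⁻¹ᵁ W₀))) (U'.ι (e.hom ⟨x, hx⟩))
      ⟨e.hom ⟨x, hx⟩, by
        show U.ι ((e.hom ≫ e.inv) ⟨x, hx⟩) ∈ W₀
        rw [e.hom_inv_id]
        exact hxW₀, rfl⟩
    let g : (U : Scheme.{u}) ⟶ X' := e.hom ≫ U'.ι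
    let W : X.Opens := U.ι ''ᵁ (g ⁻¹ᵁ V')
    have hWU : W ≤ U := U.ι_image_le _
    have hgV : V' ≤ g.opensRange := fun z hz => by
      obtain ⟨w, -, rfl⟩ := hV'le hz
      exact ⟨e.inv w, by
        show U'.ι ((e.inv ≫ e.hom) w) = _
        rw [e.inv_hom_id]
        rfl⟩
    have hW : IsAffineOpen W := (hV'.preimage_of_isOpenImmersion g hgV).image_of_isOpenImmersion U.ι
    have hWW₀ : W ≤ W₀ := by
      rintro _ ⟨w, hw, rfl⟩
      obtain ⟨v, hv, hvw⟩ := hV'le hw
      have : v = e.hom w := U'.ι.isOpenEmbedding.injective hvw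
      subst this
      have hv' : U.ι ((e.hom ≫ e.inv) w) ∈ W₀ := hv
      rw [e.hom_inv_id] at hv'
      exact hv'
    have hWV : W ≤ V := hWU.trans hUV
    have hq : X.homOfLE hWV ≫ φ = X.homOfLE hWU ≫ g := by
      rw [← X.homOfLE_homOfLE hWU hUV, Category.assoc, hφe]
    haveI : IsOpenImmersion (X.homOfLE hWV ≫ φ) := by rw [hq]; infer_instance
    have h : ⊤ ≤ (X.homOfLE hWV ≫ φ) ⁻¹ᵁ V' := fun w _ => by
      obtain ⟨v, hv, hvw⟩ := w.2
      have : X.homOfLE hWU w = v := Subtype.ext ((Scheme.homOfLE_apply ..).trans hvw.symm)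
      show (X.homOfLE hWV ≫ φ) w ∈ V'
      rw [hq]
      show g (X.homOfLE hWU w) ∈ V'
      rw [this]
      exact hv
    have hrange : V' ≤ (X.homOfLE hWV ≫ φ).opensRange := fun z hz => by
      obtain ⟨u, rfl⟩ := hgV hz
      refine ⟨⟨U.ι u, ⟨u, hz, rfl⟩⟩, ?_⟩
      rw [hq]
      exact congrArg g (Subtype.ext (Scheme.homOfLE_apply ..))
    have hσ : Function.Bijective (coord φ hWV h) := by
      haveI : IsIso ((X.homOfLE hWV ≫ φ).app V') := (X.homOfLE hWV ≫ φ).isIso_app V' hrange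
      haveI : IsIso ((X.homOfLE hWV ≫ φ).appLE V' ⊤ h) := by
        rw [Scheme.Hom.appLE]
        haveI : IsIso (homOfLE h) := ⟨homOfLE le_top, Subsingleton.elim _ _, Subsingleton.elim _ _⟩
        infer_instance
      exact ConcreteCategory.bijective_of_isIso ((X.homOfLE hWV ≫ φ).appLE V' ⊤ h ≫ W.topIso.hom)
    let τ : Γ(X, W) →+* Γ(X', V') := (RingEquiv.ofBijective (coord φ hWV h) hσ).symm.toRingHom
    have hts : ∀ a, τ (coord φ hWV h a) = a := (RingEquiv.ofBijective (coord φ hWV h) hσ).symm_apply_apply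
    have hτ : Cmp (X' ↘ Spec (CommRingCat.of k)) (X ↘ Spec (CommRingCat.of k)) τ := fun r => by
      rw [← coord_cmp φ hφ hWV h r]
      exact hts _
    refine eq_zero_of_res_eq_zero hL' s hyV ?_
    rw [← hT W V' hW hV' gV (hdown W₀ W gW₀ hWW₀) _ (coord_cmp φ hφ hWV h) τ hτ hts (res L' le_top s),
      ← hΦ W V' hWV hW hV' gV h s, hs, map_zero, map_zero]
  obtain ⟨e₁, he₁⟩ := CohFinite.exists_zero_equiv k L' (X := X')
  obtain ⟨e₂, he₂⟩ := CohFinite.exists_zero_equiv k L (X := X)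
  let R := Equiv.ofBijective _ hbij
  have hR : ∀ t, res L (le_top : V ≤ ⊤) (R.symm t) = t := R.apply_symm_apply
  let Ψ : Coh.HH X' L' 0 →ₗ[k] Coh.HH X L 0 :=
    { toFun := fun a => e₂.symm (R.symm (Φ (e₁ a)))
      map_add' := fun a b => by
        apply e₂.injective
        apply hbij.1
        simp only [map_add, AddEquiv.apply_symm_apply, hR]
      map_smul' := fun c a => by
        apply e₂.injective
        apply hbij.1
        rw [RingHom.id_apply, he₂, res_smul, AddEquiv.apply_symm_apply, AddEquiv.apply_symm_apply, hR, hR, he₁]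
        have e1 : (show Γ(X', ⊤) from Coh.toGlobal (X' ↘ Spec (CommRingCat.of k)) c) =
            (X' ↘ Spec (CommRingCat.of k)).appLE ⊤ ⊤ le_top ((Scheme.ΓSpecIso (CommRingCat.of k)).inv c) := by
          exact (ConcreteCategory.congr_hom (Scheme.Hom.app_eq_appLE (X' ↘ Spec (CommRingCat.of k))) _)
        rw [e1, hΦs]
        congr 1 }
  refine LinearMap.rank_le_of_injective Ψ ((injective_iff_map_eq_zero Ψ).2 fun a ha => e₁.injective ?_)
  rw [map_zero]
  refine hinj _ ?_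
  have h1 : R.symm (Φ (e₁ a)) = 0 := e₂.symm.injective ((show e₂.symm _ = 0 from ha).trans (map_zero _).symm)
  rw [← hR (Φ (e₁ a)), h1, map_zero]

end Groth.Agent.BirForms
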