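import Groth.Agent.OmegaLib.FiniteType
import Groth.Agent.SGA6Ext.Main
import Groth.Agent.TMul.Basic
import Groth.Agent.QC.Closure

/-! Transfer of forms along maps of coordinate rings of affine opens. -/

set_option autoImplicit false
set_option backward.isDefEq.respectTransparency false
set_option backward.isDefEq.respectTransparency.types false
set_option linter.style.haveILetI false
set_option maxHeartbeats 1000000

universe u

open CategoryTheory CategoryTheory.Limits AlgebraicGeometry Opposite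
open Groth.Agent.QC (res resO res_res res_self res_smul)
open TMul (tm IsGen)
open Groth.Agent.SGA6Ext (extS extS_smul extS_ιMulti Phi PhiCompat phi_res secRes)

noncomputable section

namespace Groth.Agent.BirForms

variable {S X X' : Scheme.{u}} (p : X ⟶ S) (p' : X' ⟶ S)

/-- A ring map between coordinate rings is a map over the base. -/
def Cmp {W : X.Opens} {V : X'.Opens} (σ : Γ(X', V) →+* Γ(X, W)) : Prop :=
  ∀ r : Γ(S, ⊤), σ (p'.appLE ⊤ V le_top r) = p.appLE ⊤ W le_top r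

/-- Semilinear maps of sections, functorial in maps of coordinate rings. -/
structure Tr (L : X.Modules) (L' : X'.Modules) (G : X'.Opens → Prop) where
  map : ∀ (W : X.Opens) (V : X'.Opens), IsAffineOpen W → IsAffineOpen V → G V →
    ∀ σ : Γ(X', V) →+* Γ(X, W), Cmp p p' σ → Γ(L', V) →+ Γ(L, W)
  map_smul : ∀ (W : X.Opens) (V : X'.Opens) (hW : IsAffineOpen W) (hV : IsAffineOpen V) (gV : G V)
    (σ : Γ(X', V) →+* Γ(X, W)) (hσ : Cmp p p' σ) (r : Γ(X', V)) (m : Γ(L', V)),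
    map W V hW hV gV σ hσ (r • m) = σ r • map W V hW hV gV σ hσ m
  map_res : ∀ (W W₁ : X.Opens) (V V₁ : X'.Opens) (hW : IsAffineOpen W) (hW₁ : IsAffineOpen W₁)
    (hV : IsAffineOpen V) (hV₁ : IsAffineOpen V₁) (gV : G V) (gV₁ : G V₁)
    (σ : Γ(X', V) →+* Γ(X, W)) (hσ : Cmp p p' σ) (σ₁ : Γ(X', V₁) →+* Γ(X, W₁)) (hσ₁ : Cmp p p' σ₁)
    (h : W₁ ≤ W) (h' : V₁ ≤ V), (∀ a, resO X h (σ a) = σ₁ (resO X' h' a)) → ∀ m : Γ(L', V),
    res L h (map W V hW hV gV σ hσ m) = map W₁ V₁ hW₁ hV₁ gV₁ σ₁ hσ₁ (res L' h' m)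

variable {p p'}

/-- The second transfer undoes the first on mutually inverse maps. -/
def Tr.LeftInv {L : X.Modules} {L' : X'.Modules} {G : X'.Opens → Prop} {G' : X.Opens → Prop}
    (T : Tr p p' L L' G) (T' : Tr p' p L' L G') : Prop :=
  ∀ (W : X.Opens) (V : X'.Opens) (hW : IsAffineOpen W) (hV : IsAffineOpen V) (gV : G V) (gW : G' W)
    (σ : Γ(X', V) →+* Γ(X, W)) (hσ : Cmp p p' σ) (τ : Γ(X, W) →+* Γ(X', V)) (hτ : Cmp p' p τ),
    (∀ a, τ (σ a) = a) → ∀ m : Γ(L', V), T'.map V W hV hW gW τ hτ (T.map W V hW hV gV σ hσ m) = m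

/-! ### Differentials -/

section Omega

variable [IsAffine S] [QuasiSeparated p] [QuasiSeparated p']

theorem dOmega_ext {W : X.Opens} (hW : IsAffineOpen W) {M : Type*} [AddCommGroup M]
    (f g : Γ(Omega.sheaf p, W) →+ M)
    (h : ∀ (r a : Γ(X, W)), f (r • (OmegaSh.dOmega p).app W a) = g (r • (OmegaSh.dOmega p).app W a))
    (m : Γ(Omega.sheaf p, W)) : f m = g m := by
  letI : Algebra Γ(S, ⊤) Γ(X, W) := (p.appLE ⊤ W le_top).hom.toAlgebra
  obtain ⟨L, hL⟩ := OmegaLib.exists_linearEquiv (OmegaLib.isUniversal_dOmega p) (le_top : W ≤ p ⁻¹ᵁ ⊤) hW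
    (isAffineOpen_top S)
  obtain ⟨x, rfl⟩ := L.symm.surjective m
  have key : ∀ x : Ω[Γ(X, W)⁄Γ(S, ⊤)], ∀ r : Γ(X, W), f (r • L.symm x) = g (r • L.symm x) := by
    intro x
    have hx : x ∈ Submodule.span Γ(X, W) (Set.range (KaehlerDifferential.D Γ(S, ⊤) Γ(X, W))) := by
      rw [KaehlerDifferential.span_range_derivation]
      trivial
    induction hx using Submodule.span_induction with
    | mem y hy =>
      obtain ⟨a, rfl⟩ := hy
      intro r
      rw [show L.symm (KaehlerDifferential.D _ _ a) = (OmegaSh.dOmega p).app W a from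
        (LinearEquiv.symm_apply_eq L).2 (hL a).symm]
      exact h r a
    | zero => intro r; rw [map_zero, smul_zero, map_zero, map_zero]
    | add a b _ _ ha hb => intro r; rw [map_add, smul_add, map_add, map_add, ha, hb]
    | smul c a _ ha => intro r; rw [L.symm.map_smul, smul_smul, ha]
  simpa using key x 1

/-- The map of differentials along a map of coordinate rings. -/
def IsOmegaT {W : X.Opens} {V : X'.Opens} (σ : Γ(X', V) →+* Γ(X, W))
    (t : Γ(Omega.sheaf p', V) →+ Γ(Omega.sheaf p, W)) : Prop :=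
  (∀ (r : Γ(X', V)) m, t (r • m) = σ r • t m) ∧
    ∀ a, t ((OmegaSh.dOmega p').app V a) = (OmegaSh.dOmega p).app W (σ a)

theorem exists_omegaT {W : X.Opens} {V : X'.Opens} (hW : IsAffineOpen W) (hV : IsAffineOpen V)
    (σ : Γ(X', V) →+* Γ(X, W)) (hσ : Cmp p p' σ) : ∃ t, IsOmegaT (p := p) (p' := p') σ t := by
  letI algB : Algebra Γ(S, ⊤) Γ(X, W) := (p.appLE ⊤ W le_top).hom.toAlgebra
  letI algA : Algebra Γ(S, ⊤) Γ(X', V) := (p'.appLE ⊤ V le_top).hom.toAlgebra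
  letI : Algebra Γ(X', V) Γ(X, W) := σ.toAlgebra
  haveI : IsScalarTower Γ(S, ⊤) Γ(X', V) Γ(X, W) := IsScalarTower.of_algebraMap_eq fun r => (hσ r).symm
  obtain ⟨L, hL⟩ := OmegaLib.exists_linearEquiv (OmegaLib.isUniversal_dOmega p) (le_top : W ≤ p ⁻¹ᵁ ⊤) hW
    (isAffineOpen_top S)
  obtain ⟨L', hL'⟩ := OmegaLib.exists_linearEquiv (OmegaLib.isUniversal_dOmega p') (le_top : V ≤ p' ⁻¹ᵁ ⊤) hV
    (isAffineOpen_top S)
  let K := KaehlerDifferential.map Γ(S, ⊤) Γ(S, ⊤) Γ(X', V) Γ(X, W)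
  refine ⟨AddMonoidHom.mk' (fun m => L.symm (K (L' m))) fun a b => by simp only [map_add], fun r m => ?_,
    fun a => ?_⟩
  · show L.symm (K (L' (r • m))) = σ r • L.symm (K (L' m))
    rw [map_smul, map_smul, ← map_smul L.symm]
    congr 1
  · show L.symm (K (L' ((OmegaSh.dOmega p').app V a))) = _
    rw [hL', KaehlerDifferential.map_D, LinearEquiv.symm_apply_eq, hL]
    rfl

def omegaT {W : X.Opens} {V : X'.Opens} (hW : IsAffineOpen W) (hV : IsAffineOpen V)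
    (σ : Γ(X', V) →+* Γ(X, W)) (hσ : Cmp p p' σ) : Γ(Omega.sheaf p', V) →+ Γ(Omega.sheaf p, W) :=
  (exists_omegaT hW hV σ hσ).choose

theorem omegaT_smul {W : X.Opens} {V : X'.Opens} (hW : IsAffineOpen W) (hV : IsAffineOpen V)
    (σ : Γ(X', V) →+* Γ(X, W)) (hσ : Cmp p p' σ) (r : Γ(X', V)) (m) :
    omegaT hW hV σ hσ (r • m) = σ r • omegaT hW hV σ hσ m :=
  (exists_omegaT hW hV σ hσ).choose_spec.1 r m

theorem omegaT_d {W : X.Opens} {V : X'.Opens} (hW : IsAffineOpen W) (hV : IsAffineOpen V)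
    (σ : Γ(X', V) →+* Γ(X, W)) (hσ : Cmp p p' σ) (a : Γ(X', V)) :
    omegaT hW hV σ hσ ((OmegaSh.dOmega p').app V a) = (OmegaSh.dOmega p).app W (σ a) :=
  (exists_omegaT hW hV σ hσ).choose_spec.2 a

theorem res_dOmega {W W₁ : X.Opens} (h : W₁ ≤ W) (a : Γ(X, W)) :
    res (Omega.sheaf p) h ((OmegaSh.dOmega p).app W a) = (OmegaSh.dOmega p).app W₁ (resO X h a) :=
  ((OmegaSh.dOmega p).d_map (homOfLE h).op a).symm

variable (p p') in
/-- The transfer of differentials. -/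
def omegaTr (G : X'.Opens → Prop) : Tr p p' (Omega.sheaf p) (Omega.sheaf p') G where
  map W V hW hV _ σ hσ := omegaT hW hV σ hσ
  map_smul W V hW hV _ σ hσ := omegaT_smul hW hV σ hσ
  map_res W W₁ V V₁ hW hW₁ hV hV₁ _ _ σ hσ σ₁ hσ₁ h h' hsq m := by
    refine dOmega_ext hV ((AddMonoidHom.mk' (res (Omega.sheaf p) h) (map_add _)).comp (omegaT hW hV σ hσ))
      ((omegaT hW₁ hV₁ σ₁ hσ₁).comp (AddMonoidHom.mk' (res (Omega.sheaf p') h') (map_add _))) (fun r a => ?_) m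
    show res _ h (omegaT hW hV σ hσ (r • _)) = omegaT hW₁ hV₁ σ₁ hσ₁ (res _ h' (r • _))
    rw [omegaT_smul, res_smul, omegaT_d, res_dOmega, res_smul, omegaT_smul, res_dOmega, omegaT_d, hsq, hsq]

theorem omegaTr_leftInv (G : X'.Opens → Prop) (G' : X.Opens → Prop) :
    (omegaTr p p' G).LeftInv (omegaTr p' p G') := by
  intro W V hW hV gV gW σ hσ τ hτ hts m
  refine dOmega_ext hV ((omegaT hV hW τ hτ).comp (omegaT hW hV σ hσ)) (AddMonoidHom.id _) (fun r a => ?_) m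
  show omegaT hV hW τ hτ (omegaT hW hV σ hσ (r • _)) = r • _
  rw [omegaT_smul, omegaT_smul, omegaT_d, omegaT_d, hts, hts]

end Omega

/-! ### Exterior powers -/

section Ext

variable {E L : X.Modules} {E' L' : X'.Modules} {q : ℕ}

/-- A transfer, as a map of section modules over coordinate rings. -/
def Tr.secT {G : X'.Opens → Prop} (T : Tr p p' E E' G) {W : X.Opens} {V : X'.Opens} (hW : IsAffineOpen W)
    (hV : IsAffineOpen V) (gV : G V) (σ : Γ(X', V) →+* Γ(X, W)) (hσ : Cmp p p' σ) :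
    SGA6Ext.Sec E' V →+ SGA6Ext.Sec E W :=
  T.map W V hW hV gV σ hσ

theorem Tr.secT_smul {G : X'.Opens → Prop} (T : Tr p p' E E' G) {W : X.Opens} {V : X'.Opens} (hW : IsAffineOpen W)
    (hV : IsAffineOpen V) (gV : G V) (σ : Γ(X', V) →+* Γ(X, W)) (hσ : Cmp p p' σ) (r : Γ(X', V))
    (m : SGA6Ext.Sec E' V) : T.secT hW hV gV σ hσ (r • m) = σ r • T.secT hW hV gV σ hσ m :=
  T.map_smul W V hW hV gV σ hσ r m

/-- The transfer of exterior powers on one pair. -/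
def extMap {G : X'.Opens → Prop} (T : Tr p p' E E' G) (φ : Phi q E L) (φ' : Phi q E' L') {W : X.Opens} {V : X'.Opens}
    (hW : IsAffineOpen W) (hV : IsAffineOpen V) (gV : G V) (σ : Γ(X', V) →+* Γ(X, W)) (hσ : Cmp p p' σ) :
    Γ(L', V) →+ Γ(L, W) :=
  (φ ⟨W, hW⟩).symm.toAddMonoidHom.comp
    ((extS σ (T.secT hW hV gV σ hσ) (T.secT_smul hW hV gV σ hσ) q).comp (φ' ⟨V, hV⟩).toAddMonoidHom)

theorem phi_extMap {G : X'.Opens → Prop} (T : Tr p p' E E' G) (φ : Phi q E L) (φ' : Phi q E' L') {W : X.Opens}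
    {V : X'.Opens} (hW : IsAffineOpen W) (hV : IsAffineOpen V) (gV : G V) (σ : Γ(X', V) →+* Γ(X, W))
    (hσ : Cmp p p' σ) (m : Γ(L', V)) :
    φ ⟨W, hW⟩ (extMap T φ φ' hW hV gV σ hσ m) =
      extS σ (T.secT hW hV gV σ hσ) (T.secT_smul hW hV gV σ hσ) q (φ' ⟨V, hV⟩ m) :=
  (φ ⟨W, hW⟩).apply_symm_apply _

theorem extS_res_comm {G : X'.Opens → Prop} (T : Tr p p' E E' G) {W W₁ : X.Opens} {V V₁ : X'.Opens}
    (hW : IsAffineOpen W) (hW₁ : IsAffineOpen W₁) (hV : IsAffineOpen V) (hV₁ : IsAffineOpen V₁) (gV : G V)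
    (gV₁ : G V₁) (σ : Γ(X', V) →+* Γ(X, W)) (hσ : Cmp p p' σ) (σ₁ : Γ(X', V₁) →+* Γ(X, W₁))
    (hσ₁ : Cmp p p' σ₁) (h : W₁ ≤ W) (h' : V₁ ≤ V) (hsq : ∀ a, resO X h (σ a) = σ₁ (resO X' h' a))
    (z : ↥(⋀[Γ(X', V)]^q (SGA6Ext.Sec E' V))) :
    extS (resO X h) (secRes E h) (SGA6Ext.secRes_smul E h) q
        (extS σ (T.secT hW hV gV σ hσ) (T.secT_smul hW hV gV σ hσ) q z) =
      extS σ₁ (T.secT hW₁ hV₁ gV₁ σ₁ hσ₁) (T.secT_smul hW₁ hV₁ gV₁ σ₁ hσ₁) q
        (extS (resO X' h') (secRes E' h') (SGA6Ext.secRes_smul E' h') q z) := by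
  have hz : z ∈ Submodule.span Γ(X', V) (Set.range (exteriorPower.ιMulti Γ(X', V) q)) := by
    rw [exteriorPower.ιMulti_span]
    trivial
  induction hz using Submodule.span_induction with
  | mem y hy =>
    obtain ⟨e, rfl⟩ := hy
    rw [extS_ιMulti, extS_ιMulti, extS_ιMulti, extS_ιMulti]
    congr 1
    funext j
    exact T.map_res W W₁ V V₁ hW hW₁ hV hV₁ gV gV₁ σ hσ σ₁ hσ₁ h h' hsq (e j)
  | zero => simp only [map_zero]
  | add a b _ _ ha hb => simp only [map_add, ha, hb]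
  | smul c a _ ha => rw [extS_smul, extS_smul, extS_smul, extS_smul, ha, hsq]

/-- The transfer of exterior powers. -/
def extTr {G : X'.Opens → Prop} (T : Tr p p' E E' G) {φ : Phi q E L} (hφ : PhiCompat φ) {φ' : Phi q E' L'}
    (hφ' : PhiCompat φ') : Tr p p' L L' G where
  map W V hW hV gV σ hσ := extMap T φ φ' hW hV gV σ hσ
  map_smul W V hW hV gV σ hσ r m := (φ ⟨W, hW⟩).injective <| by
    refine (phi_extMap T φ φ' hW hV gV σ hσ _).trans ?_
    refine Eq.trans ?_ ((φ ⟨W, hW⟩).map_smul _ _).symm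
    rw [phi_extMap, ← extS_smul]
    exact congrArg _ ((φ' ⟨V, hV⟩).map_smul r m)
  map_res W W₁ V V₁ hW hW₁ hV hV₁ gV gV₁ σ hσ σ₁ hσ₁ h h' hsq m := (φ ⟨W₁, hW₁⟩).injective <| by
    refine (phi_res hφ ⟨W, hW⟩ ⟨W₁, hW₁⟩ h _).trans ?_
    rw [phi_extMap]
    refine (extS_res_comm T hW hW₁ hV hV₁ gV gV₁ σ hσ σ₁ hσ₁ h h' hsq _).trans ?_
    rw [phi_extMap, ← phi_res hφ' ⟨V, hV⟩ ⟨V₁, hV₁⟩ h']
    rfl

theorem extTr_leftInv {G : X'.Opens → Prop} {G' : X.Opens → Prop} {T : Tr p p' E E' G} {T' : Tr p' p E' E G'}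
    (hT : T.LeftInv T') {φ : Phi q E L} (hφ : PhiCompat φ) {φ' : Phi q E' L'} (hφ' : PhiCompat φ') :
    (extTr T hφ hφ').LeftInv (extTr T' hφ' hφ) := by
  intro W V hW hV gV gW σ hσ τ hτ hts m
  refine (φ' ⟨V, hV⟩).injective ((phi_extMap T' φ' φ hV hW gW τ hτ _).trans ?_)
  refine (congrArg _ (phi_extMap T φ φ' hW hV gV σ hσ m)).trans ?_
  generalize φ' ⟨V, hV⟩ m = z
  have hz : z ∈ Submodule.span Γ(X', V) (Set.range (exteriorPower.ιMulti Γ(X', V) q)) := by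
    rw [exteriorPower.ιMulti_span]
    trivial
  induction hz using Submodule.span_induction with
  | mem y hy =>
    obtain ⟨e, rfl⟩ := hy
    rw [extS_ιMulti, extS_ιMulti]
    congr 1
    funext j
    exact hT W V hW hV gV gW σ hσ τ hτ hts (e j)
  | zero => simp only [map_zero]
  | add a b _ _ ha hb => simp only [map_add, ha, hb]
  | smul c a _ ha => rw [extS_smul, extS_smul, ha, hts]

end Ext

/-! ### Tensor powers -/

variable (p p') in
/-- The transfer of functions. -/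
def constTr (G : X'.Opens → Prop) : Tr p p' (Coh.structureModule X) (Coh.structureModule X') G where
  map W V _ _ _ σ _ := AddMonoidHom.mk' (fun m => OmegaSh.strSect X W (σ (OmegaSh.fnSect X' V m)))
    fun a b => by simp only [map_add]
  map_smul W V _ _ _ σ _ r m := map_mul σ r (OmegaSh.fnSect X' V m)
  map_res W W₁ V V₁ _ _ _ _ _ _ σ _ σ₁ _ h h' hsq m := hsq (OmegaSh.fnSect X' V m)

theorem constTr_leftInv (G : X'.Opens → Prop) (G' : X.Opens → Prop) :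
    (constTr p p' G).LeftInv (constTr p' p G') :=
  fun _ _ _ _ _ _ _ _ _ _ hts m => hts m

section Tensor

variable {M A : X.Modules} {M' A' : X'.Modules}

/-- Opens with a generator. -/
def HasGen (N : X'.Modules) (V : X'.Opens) : Prop := ∃ e : Γ(N, V), IsGen e

theorem tm_bij {V : X'.Opens} {e : Γ(A', V)} (he : IsGen e) : Function.Bijective fun m : Γ(M', V) => tm m e := by
  have h := TMul.tm_bijective (M := M') he V le_rfl
  simpa only [res_self] using h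

/-- The value on a tensor, through a generator. -/
def tenMap (T : Tr p p' M M' (HasGen A')) (Q : Tr p p' A A' (HasGen A')) {W : X.Opens} {V : X'.Opens}
    (hW : IsAffineOpen W) (hV : IsAffineOpen V) (gV : HasGen A' V) (σ : Γ(X', V) →+* Γ(X, W)) (hσ : Cmp p p' σ)
    (x : Γ(CohB1.tensorMod M' A', V)) : Γ(CohB1.tensorMod M A, W) :=
  tm (T.map W V hW hV gV σ hσ ((Equiv.ofBijective _ (tm_bij gV.choose_spec)).symm x))
    (Q.map W V hW hV gV σ hσ gV.choose)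

theorem tenMap_tm (T : Tr p p' M M' (HasGen A')) (Q : Tr p p' A A' (HasGen A')) {W : X.Opens} {V : X'.Opens}
    (hW : IsAffineOpen W) (hV : IsAffineOpen V) (gV : HasGen A' V) (σ : Γ(X', V) →+* Γ(X, W)) (hσ : Cmp p p' σ)
    (m : Γ(M', V)) (a : Γ(A', V)) :
    tenMap T Q hW hV gV σ hσ (tm m a) = tm (T.map W V hW hV gV σ hσ m) (Q.map W V hW hV gV σ hσ a) := by
  obtain ⟨c, hc⟩ := (gV.choose_spec V le_rfl).2 a
  simp only [res_self] at hc
  rw [← hc, TMul.tm_smul, ← TMul.smul_tm]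
  unfold tenMap
  rw [show (Equiv.ofBijective _ (tm_bij gV.choose_spec)).symm (tm (c • m) gV.choose) = c • m from
    (Equiv.ofBijective _ (tm_bij gV.choose_spec)).symm_apply_apply (c • m), T.map_smul, Q.map_smul, TMul.smul_tm,
    TMul.tm_smul]

theorem exists_eq_tm {V : X'.Opens} (gV : HasGen A' V) (x : Γ(CohB1.tensorMod M' A', V)) :
    ∃ (m : Γ(M', V)) (a : Γ(A', V)), tm m a = x :=
  let ⟨m, hm⟩ := (tm_bij gV.choose_spec).2 x
  ⟨m, gV.choose, hm⟩

/-- The transfer of tensor products with an invertible module. -/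
def tenTr (T : Tr p p' M M' (HasGen A')) (Q : Tr p p' A A' (HasGen A')) :
    Tr p p' (CohB1.tensorMod M A) (CohB1.tensorMod M' A') (HasGen A') where
  map W V hW hV gV σ hσ := AddMonoidHom.mk' (tenMap T Q hW hV gV σ hσ) fun x y => by
    obtain ⟨m, rfl⟩ := (tm_bij gV.choose_spec).2 x
    obtain ⟨n, rfl⟩ := (tm_bij gV.choose_spec).2 y
    show tenMap _ _ _ _ _ _ _ (tm m _ + tm n _) = _
    rw [← TMul.tm_add, tenMap_tm, tenMap_tm, tenMap_tm, map_add, TMul.tm_add]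
  map_smul W V hW hV gV σ hσ r x := by
    obtain ⟨m, a, rfl⟩ := exists_eq_tm gV x
    show tenMap _ _ _ _ _ _ _ (r • tm m a) = σ r • tenMap _ _ _ _ _ _ _ (tm m a)
    rw [← TMul.smul_tm, tenMap_tm, tenMap_tm, T.map_smul, TMul.smul_tm]
  map_res W W₁ V V₁ hW hW₁ hV hV₁ gV gV₁ σ hσ σ₁ hσ₁ h h' hsq x := by
    obtain ⟨m, a, rfl⟩ := exists_eq_tm gV x
    show res _ h (tenMap T Q hW hV gV σ hσ (tm m a)) = tenMap T Q hW₁ hV₁ gV₁ σ₁ hσ₁ (res _ h' (tm m a))
    rw [tenMap_tm, TMul.res_tm, TMul.res_tm, tenMap_tm,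
      T.map_res W W₁ V V₁ hW hW₁ hV hV₁ gV gV₁ σ hσ σ₁ hσ₁ h h' hsq,
      Q.map_res W W₁ V V₁ hW hW₁ hV hV₁ gV gV₁ σ hσ σ₁ hσ₁ h h' hsq]

theorem tenTr_leftInv {T : Tr p p' M M' (HasGen A')} {T' : Tr p' p M' M (HasGen A)}
    {Q : Tr p p' A A' (HasGen A')} {Q' : Tr p' p A' A (HasGen A)} (hT : T.LeftInv T') (hQ : Q.LeftInv Q') :
    (tenTr T Q).LeftInv (tenTr T' Q') := by
  intro W V hW hV gV gW σ hσ τ hτ hts x
  obtain ⟨m, a, rfl⟩ := exists_eq_tm gV x
  show tenMap T' Q' hV hW gW τ hτ (tenMap T Q hW hV gV σ hσ (tm m a)) = _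
  rw [tenMap_tm, tenMap_tm, hT W V hW hV gV gW σ hσ τ hτ hts, hQ W V hW hV gV gW σ hσ τ hτ hts]

/-- The transfer of tensor powers. -/
def powTr (Q : Tr p p' A A' (HasGen A')) : ∀ m : ℕ, Tr p p' (CohB1.tensorPow A m) (CohB1.tensorPow A' m) (HasGen A')
  | 0 => constTr p p' _
  | m + 1 => tenTr (powTr Q m) Q

theorem powTr_leftInv {Q : Tr p p' A A' (HasGen A')} {Q' : Tr p' p A' A (HasGen A)} (hQ : Q.LeftInv Q') :
    ∀ m : ℕ, (powTr Q m).LeftInv (powTr Q' m)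
  | 0 => constTr_leftInv _ _
  | m + 1 => tenTr_leftInv (powTr_leftInv hQ m) hQ

end Tensor

end Groth.Agent.BirForms
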